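import Mathlib

/-!
# Algebra for S17467 (helper8): extension of field embeddings, elements fixed by all pairs of
embeddings in characteristic zero, and a Hartogs-type lemma for Noetherian normal domains.
-/

set_option autoImplicit false
universe u
open TensorProduct

namespace Groth.Agent.H8.ConstFib

/-- Extension of a field embedding along a field extension, after enlarging the target. -/
theorem exists_extension {E L Ω : Type u} [Field E] [Field L] [Field Ω] (ι : E →+* L)
    (τ : E →+* Ω) :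
    ∃ (Ω' : Type u) (_ : Field Ω') (j : Ω →+* Ω') (τ' : L →+* Ω'), τ'.comp ι = j.comp τ := by
  letI := ι.toAlgebra
  letI := τ.toAlgebra
  haveI : Nontrivial (L ⊗[E] Ω) :=
    Algebra.TensorProduct.nontrivial_of_algebraMap_injective_of_isDomain E L Ω ι.injective
      τ.injective
  obtain ⟨m, hm⟩ := Ideal.exists_maximal (L ⊗[E] Ω)
  haveI := hm
  letI := Ideal.Quotient.field m
  refine ⟨(L ⊗[E] Ω) ⧸ m, inferInstance,
    (Ideal.Quotient.mk m).comp (Algebra.TensorProduct.includeRight (R := E) (A := L) (B := Ω)).toRingHom,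
    (Ideal.Quotient.mk m).comp (Algebra.TensorProduct.includeLeft (R := E) (S := E) (A := L) (B := Ω)).toRingHom,
    ?_⟩
  refine RingHom.ext fun e => ?_
  simp only [RingHom.comp_apply, AlgHom.toRingHom_eq_coe, RingHom.coe_coe,
    Algebra.TensorProduct.includeLeft_apply, Algebra.TensorProduct.includeRight_apply]
  congr 1
  have h1 : ι e = algebraMap E L e := rfl
  have h2 : τ e = algebraMap E Ω e := rfl
  rw [h1, h2, Algebra.algebraMap_eq_smul_one, Algebra.algebraMap_eq_smul_one,
    TensorProduct.smul_tmul]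

theorem exists_extension₂ {E L Ω : Type u} [Field E] [Field L] [Field Ω] (ι : E →+* L)
    (τ₁ τ₂ : E →+* Ω) :
    ∃ (Ω' : Type u) (_ : Field Ω') (j : Ω →+* Ω') (τ₁' τ₂' : L →+* Ω'),
      τ₁'.comp ι = j.comp τ₁ ∧ τ₂'.comp ι = j.comp τ₂ := by
  obtain ⟨Ω₁, _, j₁, σ₁, h₁⟩ := exists_extension ι τ₁
  obtain ⟨Ω₂, _, j₂, σ₂, h₂⟩ := exists_extension ι (j₁.comp τ₂)
  refine ⟨Ω₂, inferInstance, j₂.comp j₁, j₂.comp σ₁, σ₂, ?_, ?_⟩
  · rw [RingHom.comp_assoc, h₁, RingHom.comp_assoc]
  · rw [h₂, RingHom.comp_assoc]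

/-- In characteristic zero, an element of an extension field on which any two embeddings
agreeing on the base field agree lies in the base field. -/
theorem mem_range_of_embeddings_agree {K L : Type u} [Field K] [Field L] [CharZero K]
    (σ : K →+* L) (s : L)
    (h : ∀ (Ω : Type u) [Field Ω] (τ₁ τ₂ : L →+* Ω), τ₁.comp σ = τ₂.comp σ → τ₁ s = τ₂ s) :
    s ∈ σ.range := by
  letI := σ.toAlgebra
  obtain ⟨E, hE⟩ : ∃ E : IntermediateField K L, E = IntermediateField.adjoin K {s} := ⟨_, rfl⟩
  have hsE : s ∈ E := hE ▸ IntermediateField.mem_adjoin_simple_self K s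
  haveI : IsPurelyInseparable K E := by
    rw [isPurelyInseparable_iff_subsingleton_emb]
    refine ⟨fun τ₁ τ₂ => ?_⟩
    obtain ⟨Ω', _, j, τ₁', τ₂', h₁, h₂⟩ :=
      exists_extension₂ (E.val : E →+* L) (τ₁ : E →+* AlgebraicClosure E)
        (τ₂ : E →+* AlgebraicClosure E)
    have h₁' : ∀ x : E, τ₁' (x : L) = j (τ₁ x) := fun x => by
      have := congrArg (fun φ => φ x) h₁
      exact this
    have h₂' : ∀ x : E, τ₂' (x : L) = j (τ₂ x) := fun x => by
      have := congrArg (fun φ => φ x) h₂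
      exact this
    have hagree : τ₁'.comp σ = τ₂'.comp σ := by
      refine RingHom.ext fun a => ?_
      have e1 := h₁' (algebraMap K E a)
      have e2 := h₂' (algebraMap K E a)
      rw [AlgHom.commutes] at e1 e2
      show τ₁' (σ a) = τ₂' (σ a)
      have e3 : ((algebraMap K E a : E) : L) = σ a := rfl
      rw [← e3, e1, e2]
    have key := h Ω' τ₁' τ₂' hagree
    subst hE
    apply IntermediateField.adjoin_algHom_ext
    intro x hx
    rw [Set.mem_singleton_iff] at hx
    subst hx
    apply j.injective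
    rw [← h₁', ← h₂']
    exact key
  haveI : Algebra.IsSeparable K E := Algebra.IsAlgebraic.isSeparable_of_perfectField
  obtain ⟨y, hy⟩ := IsPurelyInseparable.surjective_algebraMap_of_isSeparable K E ⟨s, hsE⟩
  exact ⟨y, congrArg Subtype.val hy⟩

/-- A Hartogs-type lemma: if `r ∈ Frac O` is not in the Noetherian normal domain `O`, there is a
prime `p` with `r⁻¹ ∈ p O_p`: `z r = u` with `z ∈ p`, `u ∉ p`. -/
theorem exists_prime_of_not_mem_range {O K : Type u} [CommRing O] [IsDomain O]
    [IsNoetherianRing O] [IsIntegrallyClosed O] [Field K] [Algebra O K] [IsFractionRing O K]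
    (r : K) (hr : r ∉ (algebraMap O K).range) :
    ∃ (p : Ideal O) (_ : p.IsPrime) (z u : O), z ∈ p ∧ u ∉ p ∧
      algebraMap O K z * r = algebraMap O K u := by
  let I : Ideal O :=
    { carrier := {x | algebraMap O K x * r ∈ (algebraMap O K).range}
      add_mem' := by
        rintro a b ⟨a', ha⟩ ⟨b', hb⟩
        exact ⟨a' + b', by rw [map_add, ha, hb, map_add, add_mul]⟩
      zero_mem' := ⟨0, by simp⟩
      smul_mem' := by
        rintro c a ⟨a', ha⟩
        exact ⟨c * a', by rw [map_mul, ha, smul_eq_mul, map_mul, mul_assoc]⟩ }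
  have hImem : ∀ x, x ∈ I ↔ algebraMap O K x * r ∈ (algebraMap O K).range := fun x => Iff.rfl
  have hI1 : (1 : O) ∉ I := by
    intro h1
    rw [hImem, map_one, one_mul] at h1
    exact hr h1
  haveI : Nontrivial (O ⧸ I) :=
    Ideal.Quotient.nontrivial_iff.mpr (by rw [Ne, Ideal.eq_top_iff_one]; exact hI1)
  obtain ⟨p, hp⟩ := associatedPrimes.nonempty O (O ⧸ I)
  rw [AssociatedPrimes.mem_iff, isAssociatedPrime_iff] at hp
  obtain ⟨hpprime, m, hpm⟩ := hp
  obtain ⟨c, rfl⟩ := Ideal.Quotient.mk_surjective m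
  obtain ⟨r', hr'def⟩ : ∃ r' : K, r' = algebraMap O K c * r := ⟨_, rfl⟩
  have hmem : ∀ x, x ∈ p ↔ algebraMap O K x * r' ∈ (algebraMap O K).range := by
    intro x
    rw [hpm, Submodule.mem_colon_singleton, Submodule.mem_bot]
    have e : x • (Ideal.Quotient.mk I c) = Ideal.Quotient.mk I (x * c) := by
      rw [Algebra.smul_def, Ideal.Quotient.algebraMap_eq, ← map_mul]
    rw [e, Ideal.Quotient.eq_zero_iff_mem, hImem, hr'def, map_mul, mul_assoc]
  have hr' : r' ∉ (algebraMap O K).range := by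
    intro h1
    have : (1 : O) ∈ p := by rw [hmem, map_one, one_mul]; exact h1
    exact hpprime.ne_top ((Ideal.eq_top_iff_one p).mpr this)
  by_cases hcase : ∀ x ∈ p, ∀ o, algebraMap O K o = algebraMap O K x * r' → o ∈ p
  · exfalso
    obtain ⟨b, hb0, hbp⟩ : ∃ b : O, b ≠ 0 ∧ b ∈ p := by
      obtain ⟨a, b, hb, hab⟩ := IsFractionRing.div_surjective (A := O) r'
      refine ⟨b, nonZeroDivisors.ne_zero hb, (hmem b).mpr ⟨a, ?_⟩⟩
      have hb' : algebraMap O K b ≠ 0 :=
        (map_ne_zero_iff _ (IsFractionRing.injective O K)).mpr (nonZeroDivisors.ne_zero hb)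
      rw [← hab, mul_div_cancel₀ _ hb']
    have hint : IsIntegral O r' := by
      refine isIntegral_of_smul_mem_submodule (M := K)
        (Submodule.map (Algebra.linearMap O K) p) ?_ ?_ r' ?_
      · rw [Submodule.ne_bot_iff]
        exact ⟨algebraMap O K b, Submodule.mem_map.mpr ⟨b, hbp, rfl⟩,
          (map_ne_zero_iff _ (IsFractionRing.injective O K)).mpr hb0⟩
      · exact (IsNoetherian.noetherian p).map _
      · intro n hn
        obtain ⟨x, hxp, rfl⟩ := Submodule.mem_map.mp hn
        obtain ⟨o, ho⟩ := (hmem x).mp hxp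
        refine Submodule.mem_map.mpr ⟨o, hcase x hxp o ho, ?_⟩
        rw [Algebra.linearMap_apply, Algebra.linearMap_apply, ho, smul_eq_mul, mul_comm]
    obtain ⟨y, hy⟩ := IsIntegrallyClosed.isIntegral_iff.mp hint
    exact hr' ⟨y, hy⟩
  · push_neg at hcase
    obtain ⟨x, hxp, o, ho, hop⟩ := hcase
    refine ⟨p, hpprime, x * c, o, p.mul_mem_right c hxp, hop, ?_⟩
    rw [map_mul, mul_assoc, ← hr'def]
    exact ho.symm

end Groth.Agent.H8.ConstFib
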