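import Mathlib
import Groth.Prelude.Def_Pi1
import Groth.Agent.Lib.Helper8.ConstFib.Alg
import Groth.Agent.Lib.Helper8.RatSec.Main
import Groth.Agent.Lib.Helper8.NormNormal.Geo

/-!
# Functions constant on the fibres of a surjective morphism to a normal variety descend
(characteristic zero; helper8, S17467)
-/

set_option autoImplicit false
universe u
open CategoryTheory CategoryTheory.Limits AlgebraicGeometry TopologicalSpace Opposite

namespace Groth.Agent.H8.ConstFib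

theorem appTop_point {X : Scheme.{u}} (ξ : X) (S : CommRingCat.{u}) (φ : X.presheaf.stalk ξ ⟶ S) :
    (Spec.map φ ≫ X.fromSpecStalk ξ).appTop ≫ (Scheme.ΓSpecIso S).hom =
      X.presheaf.germ ⊤ ξ trivial ≫ φ := by
  rw [Scheme.Hom.comp_appTop, Category.assoc, Scheme.ΓSpecIso_naturality,
    Scheme.fromSpecStalk_appTop]
  simp

/-- The difference of the two pullbacks of `s` to `X ×_Y X` vanishes at every point. -/
theorem basicOpen_diff_eq_bot {k : Type u} [Field k] [IsAlgClosed k]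
    {X Y : Scheme.{u}} (sX : X ⟶ Spec (CommRingCat.of k)) (sY : Y ⟶ Spec (CommRingCat.of k))
    [LocallyOfFiniteType sX] (f : X ⟶ Y) (hf : f ≫ sY = sX) (s : Γ(X, ⊤))
    (hs : ∀ x₁ x₂ : Spec (CommRingCat.of k) ⟶ X, x₁ ≫ sX = 𝟙 _ → x₂ ≫ sX = 𝟙 _ →
      x₁ ≫ f = x₂ ≫ f → x₁.appTop.hom s = x₂.appTop.hom s) :
    (pullback f f).basicOpen
      ((pullback.fst f f).appTop.hom s - (pullback.snd f f).appTop.hom s) = ⊥ := by
  haveI h2 : LocallyOfFiniteType (f ≫ sY) := by rw [hf]; infer_instance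
  haveI : LocallyOfFiniteType f := locallyOfFiniteType_of_comp f sY
  haveI : JacobsonSpace ((pullback f f : Scheme.{u}) : Type u) :=
    LocallyOfFiniteType.jacobsonSpace (pullback.fst f f ≫ sX)
  obtain ⟨d, hd⟩ : ∃ d : Γ(pullback f f, ⊤),
      d = (pullback.fst f f).appTop.hom s - (pullback.snd f f).appTop.hom s := ⟨_, rfl⟩
  rw [← hd]
  by_contra hne
  obtain ⟨z, hz⟩ := (Opens.ne_bot_iff_nonempty _).mp hne
  obtain ⟨w, hwW, hwcl⟩ := nonempty_inter_closedPoints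
    (X := ((pullback f f : Scheme.{u}) : Type u))
    (Z := (((pullback f f).basicOpen d : (pullback f f).Opens) : Set (pullback f f : Scheme.{u})))
    ⟨z, hz⟩ ((pullback f f).basicOpen d).2.isLocallyClosed
  rw [mem_closedPoints_iff] at hwcl
  obtain ⟨c, hc⟩ : ∃ c : Spec (CommRingCat.of k) ⟶ pullback f f,
      c = pointOfClosedPoint (pullback.fst f f ≫ sX) w hwcl := ⟨_, rfl⟩
  have hc1 : c ≫ pullback.fst f f ≫ sX = 𝟙 _ := by
    rw [hc]; exact pointOfClosedPoint_comp _ _ _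
  have hc2 : c ≫ pullback.snd f f ≫ sX = 𝟙 _ := by
    rw [← hf, ← pullback.condition_assoc, hf]; exact hc1
  have hcw : c (IsLocalRing.closedPoint k) = w := by
    rw [hc]; exact pointOfClosedPoint_apply _ _ _ _
  have hval := hs (c ≫ pullback.fst f f) (c ≫ pullback.snd f f)
    (by rw [Category.assoc]; exact hc1) (by rw [Category.assoc]; exact hc2)
    (by rw [Category.assoc, Category.assoc, pullback.condition])
  have h0 : c.appTop.hom d = 0 := by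
    rw [hd, map_sub, sub_eq_zero]
    exact hval
  have h1 : (IsLocalRing.closedPoint k : Spec (CommRingCat.of k)) ∈
      c ⁻¹ᵁ (pullback f f).basicOpen d := by
    show c (IsLocalRing.closedPoint k) ∈ (pullback f f).basicOpen d
    rw [hcw]; exact hwW
  rw [Scheme.preimage_basicOpen_top] at h1
  have h3 : c.appTop d = 0 := h0
  rw [h3, Scheme.basicOpen_zero] at h1
  exact False.elim h1

theorem embeddings_agree {X Y : Scheme.{u}} (f : X ⟶ Y) (s : Γ(X, ⊤))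
    (hd : (pullback f f).basicOpen
      ((pullback.fst f f).appTop.hom s - (pullback.snd f f).appTop.hom s) = ⊥)
    (ξ : X) (Ω : Type u) [Field Ω] (τ₁ τ₂ : X.presheaf.stalk ξ →+* Ω)
    (h : τ₁.comp (f.stalkMap ξ).hom = τ₂.comp (f.stalkMap ξ).hom) :
    τ₁ ((X.presheaf.germ ⊤ ξ trivial).hom s) = τ₂ ((X.presheaf.germ ⊤ ξ trivial).hom s) := by
  obtain ⟨a₁, ha₁⟩ : ∃ a : Spec (CommRingCat.of Ω) ⟶ X,
      a = Spec.map (CommRingCat.ofHom τ₁) ≫ X.fromSpecStalk ξ := ⟨_, rfl⟩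
  obtain ⟨a₂, ha₂⟩ : ∃ a : Spec (CommRingCat.of Ω) ⟶ X,
      a = Spec.map (CommRingCat.ofHom τ₂) ≫ X.fromSpecStalk ξ := ⟨_, rfl⟩
  have hcomm : a₁ ≫ f = a₂ ≫ f := by
    have e : f.stalkMap ξ ≫ CommRingCat.ofHom τ₁ = f.stalkMap ξ ≫ CommRingCat.ofHom τ₂ := by
      exact CommRingCat.hom_ext h
    rw [ha₁, ha₂, Category.assoc, Category.assoc, ← Scheme.SpecMap_stalkMap_fromSpecStalk,
      ← Spec.map_comp_assoc, ← Spec.map_comp_assoc]
    exact congrArg (fun φ => Spec.map φ ≫ Y.fromSpecStalk (f ξ)) e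
  obtain ⟨q, hq⟩ : ∃ q : Spec (CommRingCat.of Ω) ⟶ pullback f f,
      q = pullback.lift a₁ a₂ hcomm := ⟨_, rfl⟩
  have hq1 : q ≫ pullback.fst f f = a₁ := by rw [hq]; exact pullback.lift_fst _ _ _
  have hq2 : q ≫ pullback.snd f f = a₂ := by rw [hq]; exact pullback.lift_snd _ _ _
  obtain ⟨d, hdd⟩ : ∃ d : Γ(pullback f f, ⊤),
      d = (pullback.fst f f).appTop.hom s - (pullback.snd f f).appTop.hom s := ⟨_, rfl⟩
  rw [← hdd] at hd
  have h1 : (Spec (CommRingCat.of Ω)).basicOpen (q.appTop d) = ⊥ := by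
    rw [← Scheme.preimage_basicOpen_top, hd]
    rfl
  rw [basicOpen_eq_bot_iff] at h1
  have h2 : a₁.appTop.hom s = a₂.appTop.hom s := by
    have e1 : a₁.appTop.hom s = q.appTop.hom ((pullback.fst f f).appTop.hom s) := by
      rw [← hq1]; rfl
    have e2 : a₂.appTop.hom s = q.appTop.hom ((pullback.snd f f).appTop.hom s) := by
      rw [← hq2]; rfl
    rw [e1, e2, ← sub_eq_zero, ← map_sub, ← hdd]
    exact h1
  have k1 : (Scheme.ΓSpecIso (CommRingCat.of Ω)).hom.hom (a₁.appTop.hom s) =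
      τ₁ ((X.presheaf.germ ⊤ ξ trivial).hom s) := by
    rw [ha₁]
    exact congrArg (fun φ => φ.hom s) (appTop_point ξ (CommRingCat.of Ω) (CommRingCat.ofHom τ₁))
  have k2 : (Scheme.ΓSpecIso (CommRingCat.of Ω)).hom.hom (a₂.appTop.hom s) =
      τ₂ ((X.presheaf.germ ⊤ ξ trivial).hom s) := by
    rw [ha₂]
    exact congrArg (fun φ => φ.hom s) (appTop_point ξ (CommRingCat.of Ω) (CommRingCat.ofHom τ₂))
  rw [← k1, ← k2, h2]

theorem step1 {k : Type u} [Field k] [CharZero k] {X Y : Scheme.{u}} [IsIntegral X]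
    [IsIntegral Y] (sY : Y ⟶ Spec (CommRingCat.of k))
    (η : Y) (hη : η = genericPoint Y) (ξ : X) (hξ : ξ = genericPoint X)
    (σ : Y.presheaf.stalk η →+* X.presheaf.stalk ξ) (t : X.presheaf.stalk ξ)
    (h : ∀ (Ω : Type u) [Field Ω] (τ₁ τ₂ : X.presheaf.stalk ξ →+* Ω),
      τ₁.comp σ = τ₂.comp σ → τ₁ t = τ₂ t) :
    ∃ r₀, σ r₀ = t := by
  subst hη
  subst hξ
  haveI : CharZero Y.functionField := by
    let φ : k →+* Y.functionField :=
      ((Scheme.ΓSpecIso (CommRingCat.of k)).inv ≫ sY.appTop ≫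
        Y.presheaf.germ ⊤ (genericPoint Y) trivial).hom
    exact charZero_of_injective_ringHom φ.injective
  obtain ⟨r₀, hr₀⟩ := mem_range_of_embeddings_agree (K := Y.functionField)
    (L := X.functionField) σ t h
  exact ⟨r₀, hr₀⟩

theorem mem_range_affine {X Y : Scheme.{u}} [IsIntegral X] [IsIntegral Y] [IsLocallyNoetherian Y]
    (f : X ⟶ Y) (hsurj : ∀ y : Y, ∃ x : X, f x = y) (hY : Pi1.IsNormalScheme Y) (s : Γ(X, ⊤))
    (η : Y) (hη : η = genericPoint Y) (ξ : X) (hfξ : f ξ = η)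
    (σ : Y.presheaf.stalk η →+* X.presheaf.stalk ξ)
    (hcomp : ∀ (U : Y.Opens) (hηU : η ∈ U) (hξU : ξ ∈ f ⁻¹ᵁ U) (a : Γ(Y, U)),
      σ (Y.presheaf.germ U η hηU a) = X.presheaf.germ (f ⁻¹ᵁ U) ξ hξU (f.app U a))
    (r₀ : Y.presheaf.stalk η) (hr₀ : σ r₀ = (X.presheaf.germ ⊤ ξ trivial).hom s)
    (V : Y.Opens) (hV : IsAffineOpen V) (hηV : η ∈ V) :
    ∃ a : Γ(Y, V), (Y.presheaf.germ V η hηV).hom a = r₀ := by
  subst hη
  haveI : Nonempty V := ⟨⟨_, hηV⟩⟩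
  haveI : IsIntegrallyClosed Γ(Y, V) := RatSec.isIntegrallyClosed_of_normal hY hV
  haveI : IsFractionRing Γ(Y, V) Y.functionField :=
    functionField_isFractionRing_of_isAffineOpen Y V hV
  haveI : IsNoetherianRing Γ(Y, V) := IsLocallyNoetherian.component_noetherian ⟨V, hV⟩
  by_contra hno
  have hr : r₀ ∉ (algebraMap Γ(Y, V) Y.functionField).range := by
    rintro ⟨a, ha⟩
    exact hno ⟨a, ha⟩
  obtain ⟨p, hp, z, u, hzp, hup, hzu⟩ :=
    exists_prime_of_not_mem_range (O := Γ(Y, V)) (K := Y.functionField) r₀ hr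
  obtain ⟨y', hy'⟩ : ∃ y' : Y, y' = hV.fromSpec (⟨p, hp⟩ : PrimeSpectrum Γ(Y, V)) := ⟨_, rfl⟩
  have hmemb : ∀ t : Γ(Y, V), y' ∈ Y.basicOpen t ↔ t ∉ p := by
    intro t
    rw [hy']
    show (⟨p, hp⟩ : PrimeSpectrum Γ(Y, V)) ∈ hV.fromSpec ⁻¹ᵁ Y.basicOpen t ↔ _
    rw [hV.fromSpec_preimage_basicOpen]
    exact PrimeSpectrum.mem_basicOpen _ _
  obtain ⟨x', hx'⟩ := hsurj y'
  have hξV : ξ ∈ f ⁻¹ᵁ V := by
    show f ξ ∈ V
    rw [hfξ]; exact hηV
  obtain ⟨s', hs'⟩ : ∃ s' : Γ(X, f ⁻¹ᵁ V), s' = X.presheaf.map (homOfLE le_top).op s :=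
    ⟨_, rfl⟩
  have hrel : (f.app V).hom z * s' = (f.app V).hom u := by
    apply germ_injective_of_isIntegral X ξ hξV
    rw [map_mul]
    have e1 : X.presheaf.germ (f ⁻¹ᵁ V) ξ hξV s' = σ r₀ := by
      rw [hr₀, hs']
      exact TopCat.Presheaf.germ_res_apply X.presheaf (homOfLE le_top) ξ hξV s
    have e2 := hcomp V hηV hξV z
    have e3 := hcomp V hηV hξV u
    rw [e1]
    show X.presheaf.germ (f ⁻¹ᵁ V) ξ hξV (f.app V z) * σ r₀ =
      X.presheaf.germ (f ⁻¹ᵁ V) ξ hξV (f.app V u)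
    rw [← e2, ← e3, ← map_mul]
    congr 1
  have h1 : x' ∈ X.basicOpen ((f.app V).hom u) := by
    have : x' ∈ f ⁻¹ᵁ Y.basicOpen u := by
      show f x' ∈ Y.basicOpen u
      rw [hx', hmemb]; exact hup
    rwa [Scheme.preimage_basicOpen] at this
  rw [← hrel, Scheme.basicOpen_mul] at h1
  have h2 : x' ∈ X.basicOpen ((f.app V).hom z) := (Opens.mem_inf.mp h1).1
  have h3 : x' ∈ f ⁻¹ᵁ Y.basicOpen z := by
    rw [Scheme.preimage_basicOpen]; exact h2
  have h4 : y' ∈ Y.basicOpen z := by rw [← hx']; exact h3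
  exact (hmemb z).mp h4 hzp

theorem exists_global_of_local {Y : Scheme.{u}} [IsIntegral Y] (η : Y) (hη : η = genericPoint Y)
    (r₀ : Y.presheaf.stalk η)
    (h : ∀ (V : Y.Opens), IsAffineOpen V → ∀ hηV : η ∈ V,
      ∃ a : Γ(Y, V), (Y.presheaf.germ V η hηV).hom a = r₀) :
    ∃ r : Γ(Y, ⊤), (Y.presheaf.germ ⊤ η trivial).hom r = r₀ := by
  subst hη
  have hηmem : ∀ (V : Y.Opens) (y : Y), y ∈ V → genericPoint Y ∈ V :=
    fun V y hy => (genericPoint_specializes y).mem_open V.2 hy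
  have hloc : ∀ y : Y, ∃ (V : Y.Opens) (_ : y ∈ V) (a : Γ(Y, V)),
      ∀ hηV : genericPoint Y ∈ V, (Y.presheaf.germ V _ hηV).hom a = r₀ := by
    intro y
    obtain ⟨_, ⟨V, hV, rfl⟩, hyV, -⟩ :=
      Y.isBasis_affineOpens.exists_subset_of_mem_open (Set.mem_univ y) isOpen_univ
    obtain ⟨a, ha⟩ := h V hV (hηmem V y hyV)
    exact ⟨V, hyV, a, fun _ => ha⟩
  choose V hyV a ha using hloc
  obtain ⟨r, hr⟩ := NormNormal.exists_section_of_germs (⊤ : Y.Opens)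
    (fun y _ => NormNormal.gm (V y) y (hyV y) (a y)) (by
    intro v _
    refine ⟨V v, le_top, hyV v, a v, fun w hw => ?_⟩
    have hW : w ∈ V v ⊓ V w := Opens.mem_inf.mpr ⟨hw, hyV w⟩
    have hηW : genericPoint Y ∈ V v ⊓ V w := hηmem _ w hW
    have e : Y.presheaf.map (homOfLE (inf_le_left : V v ⊓ V w ≤ V v)).op (a v) =
        Y.presheaf.map (homOfLE (inf_le_right : V v ⊓ V w ≤ V w)).op (a w) := by
      apply germ_injective_of_isIntegral Y (genericPoint Y) hηW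
      rw [TopCat.Presheaf.germ_res_apply, TopCat.Presheaf.germ_res_apply]
      exact (ha v _).trans (ha w _).symm
    have e1 := NormNormal.gm_res (homOfLE (inf_le_left : V v ⊓ V w ≤ V v)) w hW (a v)
    have e2 := NormNormal.gm_res (homOfLE (inf_le_right : V v ⊓ V w ≤ V w)) w hW (a w)
    rw [← e1, ← e2, e])
  refine ⟨r, ?_⟩
  have h1 := hr (genericPoint Y) trivial
  exact h1.trans (ha (genericPoint Y) _)

theorem main_S17467 (k : Type u) [Field k] [IsAlgClosed k] [CharZero k]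
    {X Y : Scheme.{u}} (sX : X ⟶ Spec (CommRingCat.of k)) (sY : Y ⟶ Spec (CommRingCat.of k))
    [IsIntegral X] [IsIntegral Y] [LocallyOfFiniteType sX] [LocallyOfFiniteType sY]
    (hY : Pi1.IsNormalScheme Y) (f : X ⟶ Y) (hf : f ≫ sY = sX)
    (hsurj : ∀ y : Y, ∃ x : X, f x = y) (s : Γ(X, ⊤))
    (hs : ∀ x₁ x₂ : Spec (CommRingCat.of k) ⟶ X, x₁ ≫ sX = 𝟙 _ → x₂ ≫ sX = 𝟙 _ →
      x₁ ≫ f = x₂ ≫ f → x₁.appTop.hom s = x₂.appTop.hom s) :
    ∃ r : Γ(Y, ⊤), f.appTop.hom r = s := by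
  haveI : IsLocallyNoetherian Y := LocallyOfFiniteType.isLocallyNoetherian sY
  haveI : Surjective f := ⟨hsurj⟩
  have hd := basicOpen_diff_eq_bot sX sY f hf s hs
  obtain ⟨ξ, hξ⟩ : ∃ ξ : X, ξ = genericPoint X := ⟨_, rfl⟩
  have hgenX : IsGenericPoint ξ (Set.univ : Set X) := hξ ▸ genericPoint_spec X
  have hgenY : IsGenericPoint (f ξ) (Set.univ : Set Y) := by
    have := hgenX.image f.continuous
    rwa [Set.image_univ, f.denseRange.closure_range] at this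
  have hη : f ξ = genericPoint Y := hgenY.eq (genericPoint_spec Y)
  obtain ⟨r₀, hr₀⟩ := step1 sY (f ξ) hη ξ hξ (f.stalkMap ξ).hom
    ((X.presheaf.germ ⊤ ξ trivial).hom s)
    (fun Ω _ τ₁ τ₂ h => embeddings_agree f s hd ξ Ω τ₁ τ₂ h)
  have hcomp : ∀ (U : Y.Opens) (hηU : f ξ ∈ U) (hξU : ξ ∈ f ⁻¹ᵁ U) (a : Γ(Y, U)),
      (f.stalkMap ξ).hom (Y.presheaf.germ U (f ξ) hηU a) =
        X.presheaf.germ (f ⁻¹ᵁ U) ξ hξU (f.app U a) :=
    fun U hηU hξU a => f.germ_stalkMap_apply U ξ hηU a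
  obtain ⟨r, hr⟩ := exists_global_of_local (f ξ) hη r₀ (fun V hV hηV =>
    mem_range_affine f hsurj hY s (f ξ) hη ξ rfl (f.stalkMap ξ).hom hcomp r₀ hr₀ V hV hηV)
  refine ⟨r, ?_⟩
  apply germ_injective_of_isIntegral X ξ (show ξ ∈ (⊤ : X.Opens) from trivial)
  have e := f.germ_stalkMap_apply ⊤ ξ trivial r
  have e' : (f.stalkMap ξ).hom r₀ = X.presheaf.germ (f ⁻¹ᵁ ⊤) ξ trivial (f.app ⊤ r) := by
    rw [← hr]; exact e
  exact e'.symm.trans hr₀

end Groth.Agent.H8.ConstFib
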